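import Mathlib
import Groth.Agent.Lib.Helper5.Misc.DescFam2

/-!
# Being a colimit of schemes is local for the fpqc topology
-/

set_option autoImplicit false
universe w u
open AlgebraicGeometry CategoryTheory Limits

namespace Groth.Agent.Lib.Helper6.ColimLocal

open Groth.Agent.Lib.Helper5.DescFam

variable {J : Type u} [SmallCategory J] (D : J ⥤ Scheme.{u}) (c : Cocone D)

/-- The base-changed diagram. -/
noncomputable abbrev bc {W' : Scheme.{u}} (p : W' ⟶ c.pt) : J ⥤ Over W' :=
  D.toOver c.pt (fun j => c.ι.app j) (fun g => c.w g) ⋙ Over.pullback p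

theorem bc_map_fst {W' : Scheme.{u}} (p : W' ⟶ c.pt) {j j' : J} (g : j ⟶ j') :
    ((bc D c p).map g).left ≫ pullback.fst (c.ι.app j') p =
      pullback.fst (c.ι.app j) p ≫ D.map g :=
  pullback.lift_fst _ _ _

/-- The cocone on the base-changed diagram induced by a cocone on `D`. -/
noncomputable def pullCocone {W' : Scheme.{u}} (p : W' ⟶ c.pt) (s : Cocone D) :
    Cocone (bc D c p ⋙ Over.forget W') where
  pt := s.pt
  ι :=
    { app := fun j => pullback.fst (c.ι.app j) p ≫ s.ι.app j
      naturality := fun j j' g => by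
        have h := bc_map_fst D c p g
        change ((bc D c p).map g).left ≫ pullback.fst (c.ι.app j') p ≫ s.ι.app j' =
          (pullback.fst (c.ι.app j) p ≫ s.ι.app j) ≫ 𝟙 _
        rw [Category.comp_id]
        calc ((bc D c p).map g).left ≫ pullback.fst (c.ι.app j') p ≫ s.ι.app j'
            = (((bc D c p).map g).left ≫ pullback.fst (c.ι.app j') p) ≫ s.ι.app j' :=
              (Category.assoc _ _ _).symm
          _ = (pullback.fst (c.ι.app j) p ≫ D.map g) ≫ s.ι.app j' :=
              congrArg (· ≫ s.ι.app j') h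
          _ = pullback.fst (c.ι.app j) p ≫ (D.map g ≫ s.ι.app j') := Category.assoc _ _ _
          _ = pullback.fst (c.ι.app j) p ≫ s.ι.app j := congrArg (_ ≫ ·) (s.w g) }

theorem nonempty_isColimit (F : PreZeroHypercover.{w} c.pt)
    (hF : F.presieve₀ ∈ Scheme.fpqcPrecoverage c.pt)
    (h1 : ∀ a : F.I₀, Nonempty (IsColimit ((Over.forgetCocone (F.X a)).whisker (bc D c (F.f a)))))
    (h2 : ∀ a b : F.I₀, Nonempty (IsColimit ((Over.forgetCocone (pullback (F.f a) (F.f b))).whisker
      (bc D c (pullback.fst (F.f a) (F.f b) ≫ F.f a))))) :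
    Nonempty (IsColimit c) := by
  have hF' : Presieve.ofArrows F.X F.f ∈ Scheme.fpqcPrecoverage c.pt := hF
  let x : ∀ (s : Cocone D) (a : F.I₀), F.X a ⟶ s.pt := fun s a =>
    (h1 a).some.desc (pullCocone D c (F.f a) s)
  have hx : ∀ (s : Cocone D) (a : F.I₀) (j : J), pullback.snd (c.ι.app j) (F.f a) ≫ x s a =
      pullback.fst (c.ι.app j) (F.f a) ≫ s.ι.app j := fun s a j =>
    (h1 a).some.fac (pullCocone D c (F.f a) s) j
  have hcompat : ∀ (s : Cocone D) (a b : F.I₀),
      pullback.fst (F.f a) (F.f b) ≫ x s a = pullback.snd (F.f a) (F.f b) ≫ x s b := by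
    intro s a b
    apply (h2 a b).some.hom_ext
    intro j
    change pullback.snd (c.ι.app j) (pullback.fst (F.f a) (F.f b) ≫ F.f a) ≫ _ =
      pullback.snd (c.ι.app j) (pullback.fst (F.f a) (F.f b) ≫ F.f a) ≫ _
    have hq : pullback.fst (F.f a) (F.f b) ≫ F.f a = pullback.snd (F.f a) (F.f b) ≫ F.f b :=
      pullback.condition
    let q := pullback.fst (F.f a) (F.f b) ≫ F.f a
    have ca : pullback.fst (c.ι.app j) q ≫ c.ι.app j =
        (pullback.snd (c.ι.app j) q ≫ pullback.fst (F.f a) (F.f b)) ≫ F.f a :=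
      pullback.condition.trans (Category.assoc _ _ _).symm
    have cb : pullback.fst (c.ι.app j) q ≫ c.ι.app j =
        (pullback.snd (c.ι.app j) q ≫ pullback.snd (F.f a) (F.f b)) ≫ F.f b :=
      pullback.condition.trans ((congrArg (pullback.snd (c.ι.app j) q ≫ ·) hq).trans
        (Category.assoc _ _ _).symm)
    have ea : pullback.snd (c.ι.app j) q ≫ pullback.fst (F.f a) (F.f b) ≫ x s a =
        pullback.fst (c.ι.app j) q ≫ s.ι.app j := by
      rw [← Category.assoc, ← pullback.lift_snd _ _ ca, Category.assoc, hx, ← Category.assoc,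
        pullback.lift_fst]
    have eb : pullback.snd (c.ι.app j) q ≫ pullback.snd (F.f a) (F.f b) ≫ x s b =
        pullback.fst (c.ι.app j) q ≫ s.ι.app j := by
      rw [← Category.assoc, ← pullback.lift_snd _ _ cb, Category.assoc, hx, ← Category.assoc,
        pullback.lift_fst]
    rw [ea, eb]
  have hx' : ∀ (s : Cocone D) (k l : F.I₀) (Z : Scheme.{u}) (gk : Z ⟶ F.X k) (gl : Z ⟶ F.X l),
      gk ≫ F.f k = gl ≫ F.f l → gk ≫ x s k = gl ≫ x s l := by
    intro s k l Z gk gl h
    rw [← pullback.lift_fst gk gl h, Category.assoc, hcompat, ← Category.assoc, pullback.lift_snd]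
  have hglue := fun s : Cocone D => glue_fpqc F.f hF' (x s) (hx' s)
  refine ⟨{ desc := fun s => (hglue s).choose, fac := ?_, uniq := ?_ }⟩
  · intro s j
    obtain ⟨ht, -⟩ := (hglue s).choose_spec
    apply jointly_epi_of_fpqc _ (cover_fst F.f hF' (c.ι.app j))
    intro a
    rw [← Category.assoc, pullback.condition, Category.assoc, ht, hx]
  · intro s m hm
    obtain ⟨-, huniq⟩ := (hglue s).choose_spec
    apply huniq
    intro a
    apply (h1 a).some.hom_ext
    intro j
    change pullback.snd (c.ι.app j) (F.f a) ≫ F.f a ≫ m = pullback.snd (c.ι.app j) (F.f a) ≫ x s a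
    rw [hx, ← Category.assoc, ← pullback.condition, Category.assoc, hm]

end Groth.Agent.Lib.Helper6.ColimLocal
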