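import Mathlib
import Groth.Prelude.Def_DescFam
import Groth.Agent.Lib.Helper5.Misc.DescFam
import Groth.Agent.Lib.Helper4.FpqcQuot

/-!
# Open immersions descend along fpqc coverings
-/

set_option autoImplicit false
universe u
open CategoryTheory CategoryTheory.Limits AlgebraicGeometry Opposite Desc

namespace Groth.Agent.Lib.Helper6.DescOpen

open Groth.Agent.Lib.Helper5.DescFam

section Mono

variable {Y : Scheme.{u}} (V : Over Y) [IsOpenImmersion V.hom]

instance lifts_subsingleton {T : Scheme.{u}} (x : T ⟶ Y) : Subsingleton (Lifts V x) :=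
  ⟨fun a b => Subtype.ext (by rw [← cancel_mono V.hom, a.2, b.2])⟩

/-- A point of `Y` whose image lies in the open `V` lifts to `V`. -/
noncomputable def liftOfRange {T : Scheme.{u}} (x : T ⟶ Y)
    (h : Set.range x.base ⊆ Set.range V.hom.base) : Lifts V x :=
  ⟨IsOpenImmersion.lift V.hom x h, IsOpenImmersion.lift_fac _ _ _⟩

theorem range_subset_of_lifts {T : Scheme.{u}} {x : T ⟶ Y} (v : Lifts V x) :
    Set.range x.base ⊆ Set.range V.hom.base := by
  rw [← v.2, Scheme.Hom.comp_base, TopCat.coe_comp]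
  exact Set.range_comp_subset_range _ _

end Mono

variable {S : Scheme.{u}} {ι : Type u} {X : ι → Scheme.{u}} {f : ∀ i, X i ⟶ S}

theorem preimage_le (D : SchDDFam f) [∀ i, IsOpenImmersion (D.obj i).hom] {T : Scheme.{u}}
    {i j : ι} (x₀ : T ⟶ X i) (x₁ : T ⟶ X j) (h : x₀ ≫ f i = x₁ ≫ f j) :
    x₀ ⁻¹ᵁ (D.obj i).hom.opensRange ≤ x₁ ⁻¹ᵁ (D.obj j).hom.opensRange := by
  intro t ht
  let O : T.Opens := x₀ ⁻¹ᵁ (D.obj i).hom.opensRange
  have h' : (O.ι ≫ x₀) ≫ f i = (O.ι ≫ x₁) ≫ f j := by
    rw [Category.assoc, Category.assoc, h]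
  have hr : Set.range (O.ι ≫ x₀).base ⊆ Set.range (D.obj i).hom.base := by
    rintro _ ⟨⟨y, hy⟩, rfl⟩
    exact hy
  have w := D.φ (O.ι ≫ x₀) (O.ι ≫ x₁) h' (liftOfRange (D.obj i) _ hr)
  have := range_subset_of_lifts (D.obj j) w
  exact this ⟨⟨t, ht⟩, rfl⟩

theorem isEffective_of_isOpenImmersion (hf : Presieve.ofArrows X f ∈ Scheme.fpqcPrecoverage S)
    (D : SchDDFam f) (hD : ∀ i, IsOpenImmersion (D.obj i).hom) : D.IsEffective := by
  obtain ⟨V, hV, -⟩ := Groth.Agent.Lib.Helper4.FpqcQuot.S9839_main f hf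
    (fun i => (D.obj i).hom.opensRange) (fun i j => le_antisymm
      (preimage_le D _ _ pullback.condition) (preimage_le D _ _ pullback.condition.symm))
  let U : Over S := Over.mk V.ι
  have hU : ∀ i, IsOpenImmersion ((canonicalDDFam f U).obj i).hom := fun i => by
    change IsOpenImmersion (pullback.fst (f i) V.ι)
    infer_instance
  have hrange : ∀ i, Set.range ((canonicalDDFam f U).obj i).hom.base =
      Set.range (D.obj i).hom.base := by
    intro i
    have h1 : (pullback.fst (f i) V.ι).opensRange = (f i) ⁻¹ᵁ V.ι.opensRange :=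
      Scheme.Hom.opensRange_pullbackFst _ _
    rw [Scheme.Opens.opensRange_ι, hV i] at h1
    exact congrArg (fun O : (X i).Opens => (O : Set (X i))) h1
  let E : PtEquiv (canonicalDDFam f U) D :=
    { e := fun T i x =>
        { toFun := fun v => liftOfRange (D.obj i) x
            ((range_subset_of_lifts _ v).trans (hrange i).le)
          invFun := fun v => liftOfRange ((canonicalDDFam f U).obj i) x
            ((range_subset_of_lifts _ v).trans (hrange i).ge)
          left_inv := fun v => Subsingleton.elim _ _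
          right_inv := fun v => Subsingleton.elim _ _ }
      nat := fun T T' g i x y v v' hv => by
        rw [← cancel_mono (D.obj i).hom, Category.assoc]
        simp only [Equiv.coe_fn_mk]
        rw [(liftOfRange (D.obj i) y _).2, (liftOfRange (D.obj i) x _).2, ← v'.2, hv,
          Category.assoc, v.2]
      comm := fun T i j x₀ x₁ h v => Subsingleton.elim _ _ }
  exact ⟨U, ⟨E.toIso⟩⟩

end Groth.Agent.Lib.Helper6.DescOpen
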